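import Groth.Agent.CompactRetract.Stage
import Mathlib.CategoryTheory.Preadditive.Yoneda.Basic
import Mathlib.Algebra.Homology.ShortComplex.Exact

/-!
Replacing infinite direct sums by finite ones in a bounded complex receiving a compact object.
-/

set_option autoImplicit false
set_option backward.isDefEq.respectTransparency false
set_option backward.isDefEq.respectTransparency.types false

universe v u

open CategoryTheory Category Limits Pretriangulated DerivedCategory Opposite

namespace Groth.Agent.CompactRetract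

section killing

variable {B : Type u} [Category.{v} B] [Preadditive B] {ι : Type v} (E : ι → B) [HasCoproduct E]

open Classical in
/-- kill the summands in a finite set -/
noncomputable def kill (F : Finset ι) : (∐ E) ⟶ ∐ E :=
  Sigma.desc fun t => if t ∈ F then 0 else Sigma.ι E t

lemma kill_kill {F F' : Finset ι} (h : F ⊆ F') : kill E F ≫ kill E F' = kill E F' := by
  classical
  refine Sigma.hom_ext _ _ fun t => ?_
  simp only [kill, Sigma.ι_desc_assoc, Sigma.ι_desc]
  split_ifs with h1 h2 <;> simp_all [kill]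
  exact absurd (h h1) h2

lemma ι_kill {F : Finset ι} {t : ι} (h : t ∈ F) : Sigma.ι E t ≫ kill E F = 0 := by
  classical
  simp [kill, h]

lemma comp_kill_mono {F F' : Finset ι} (h : F ⊆ F') {X : B} (f : X ⟶ ∐ E) (hf : f ≫ kill E F = 0) :
    f ≫ kill E F' = 0 := by
  rw [← kill_kill E h, ← assoc, hf, zero_comp]

/-- the property of factoring through finitely many summands, as a subgroup -/
noncomputable def finSupp (X : B) : AddSubgroup (X ⟶ ∐ E) where
  carrier := {f | ∃ F : Finset ι, f ≫ kill E F = 0}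
  zero_mem' := ⟨∅, zero_comp⟩
  add_mem' := by
    classical
    rintro f f' ⟨F, hF⟩ ⟨F', hF'⟩
    exact ⟨F ∪ F', by
      rw [Preadditive.add_comp, comp_kill_mono E Finset.subset_union_left f hF,
        comp_kill_mono E Finset.subset_union_right f' hF', add_zero]⟩
  neg_mem' := by
    rintro f ⟨F, hF⟩
    exact ⟨F, by rw [Preadditive.neg_comp, hF, neg_zero]⟩

lemma ι_mem_finSupp {X : B} (t : ι) (g : X ⟶ E t) : g ≫ Sigma.ι E t ∈ finSupp E X :=
  ⟨{t}, by rw [assoc, ι_kill E (Finset.mem_singleton_self t), comp_zero]⟩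

lemma exists_kill {X : B}
    (hX : PreservesColimitsOfShape (Discrete ι) (preadditiveCoyoneda.obj (op X))) (f : X ⟶ ∐ E) :
    ∃ F : Finset ι, f ≫ kill E F = 0 := by
  let G := preadditiveCoyoneda.obj (op X)
  have hc := isColimitCofanMkObjOfIsColimit G _ _ (coproductIsCoproduct E)
  let q : G.obj (∐ E) ⟶ AddCommGrpCat.of ((X ⟶ ∐ E) ⧸ finSupp E X) :=
    AddCommGrpCat.ofHom (QuotientAddGroup.mk' (finSupp E X))
  have hq : q = 0 := Cofan.IsColimit.hom_ext hc _ _ fun t => by
    ext (g : X ⟶ E t)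
    exact (QuotientAddGroup.eq_zero_iff _).2 (ι_mem_finSupp E t g)
  exact (QuotientAddGroup.eq_zero_iff f).1 (congrArg (fun k => k f) hq)

lemma exists_kill_biproduct [HasZeroObject B] {n : ℕ} (X : Fin n → B) [HasBiproduct X]
    (hX : ∀ j, PreservesColimitsOfShape (Discrete ι) (preadditiveCoyoneda.obj (op (X j))))
    (f : (⨁ X) ⟶ ∐ E) : ∃ F : Finset ι, f ≫ kill E F = 0 := by
  classical
  choose F hF using fun j => exists_kill E (hX j) (biproduct.ι X j ≫ f)
  refine ⟨Finset.univ.biUnion F, biproduct.hom_ext' _ _ fun j => ?_⟩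
  rw [comp_zero, ← assoc]
  exact comp_kill_mono E (fun t ht => Finset.mem_biUnion.2 ⟨j, Finset.mem_univ j, ht⟩) _ (hF j)

lemma ι_eqToHom {t t' : ι} (h : t' = t) (he : E t = E t') :
    eqToHom he ≫ Sigma.ι E t' = Sigma.ι E t := by
  subst h; simp

end killing

variable {A : Type u} [Category.{v} A] [Abelian A] [IsGrothendieckAbelian.{v} A] [HasFiniteBiproducts A]
  [HasDerivedCategory.{v} A] [HasCoproducts.{v} (DerivedCategory A)]

/-- a single complex in the derived category -/
noncomputable abbrev sgl (A : Type u) [Category.{v} A] [Abelian A] [HasDerivedCategory.{v} A] (k : ℤ) :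
    A ⥤ DerivedCategory A :=
  HomologicalComplex.single A (ComplexShape.up ℤ) k ⋙ Q

lemma exists_kill_compact {K : DerivedCategory A} (hK : CohDer.IsCompactObject K) {ι : Type v}
    (E : ι → A) (k : ℤ) (f : K ⟶ (sgl A k).obj (∐ E)) :
    ∃ F : Finset ι, f ≫ (sgl A k).map (kill E F) = 0 := by
  classical
  haveI := BrownDerived.preservesColimitsOfShape_Q (B := A) ι
  haveI : PreservesColimitsOfShape (Discrete ι) (sgl A k) := comp_preservesColimitsOfShape _ _
  haveI : (sgl A k).Additive := inferInstanceAs (Functor.Additive (_ ⋙ _))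
  let σ := sigmaComparison (sgl A k) E
  obtain ⟨x, hx⟩ := (hK ι fun t => (sgl A k).obj (E t)).2 (f ≫ inv σ)
  have hf : f = CohDer.homSumToHomCoprod K _ x ≫ σ := by rw [hx, assoc, IsIso.inv_hom_id, comp_id]
  suffices h : ∀ x, ∃ F : Finset ι,
      (CohDer.homSumToHomCoprod K (fun t => (sgl A k).obj (E t)) x ≫ σ) ≫
        (sgl A k).map (kill E F) = 0 by
    rw [hf]; exact h x
  intro x
  induction x using DirectSum.induction_on with
  | zero => exact ⟨∅, by rw [map_zero, zero_comp, zero_comp]⟩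
  | of t g =>
    refine ⟨{t}, ?_⟩
    rw [CohDerTri.homSum_of]
    rw [assoc, assoc, ι_comp_sigmaComparison_assoc, ← Functor.map_comp,
      ι_kill E (Finset.mem_singleton_self t), Functor.map_zero, comp_zero]
  | add x y hx hy =>
    obtain ⟨F, hF⟩ := hx
    obtain ⟨F', hF'⟩ := hy
    have key : ∀ (G G' : Finset ι), G ⊆ G' → ∀ z : K ⟶ (sgl A k).obj (∐ E),
        z ≫ (sgl A k).map (kill E G) = 0 → z ≫ (sgl A k).map (kill E G') = 0 :=
      fun G G' h z hz => by rw [← kill_kill E h, Functor.map_comp, ← assoc, hz, zero_comp]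
    exact ⟨F ∪ F', by
      rw [map_add, Preadditive.add_comp, Preadditive.add_comp, key _ _ Finset.subset_union_left _ hF,
        key _ _ Finset.subset_union_right _ hF', add_zero]⟩

variable (S : Set A)

/-- finite sums of members -/
def FinSum (X : A) : Prop := ∃ (n : ℕ) (E : Fin n → A), (∀ j, E j ∈ S) ∧ Nonempty (X ≅ ⨁ E)

/-- sums of members -/
def BigSum (X : A) : Prop := ∃ (ι : Type v) (E : ι → A), (∀ j, E j ∈ S) ∧ Nonempty (X ≅ ∐ E)

variable {S}

lemma finSum_of_isZero {X : A} (h : IsZero X) : FinSum S X :=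
  ⟨0, fun _ => X, fun j => j.elim0, ⟨h.iso
    ((IsZero.iff_id_eq_zero _).2 (biproduct.hom_ext _ _ fun (j : Fin 0) => j.elim0))⟩⟩

lemma bigSum_of_isZero {X : A} (h : IsZero X) : BigSum S X :=
  ⟨PEmpty.{v + 1}, fun j => j.elim, fun j => j.elim, ⟨h.iso
    ((IsZero.iff_id_eq_zero _).2 (Sigma.hom_ext _ _ fun j => j.elim))⟩⟩

/-- finite sums inside a sum -/
theorem step (h2 : ∀ E ∈ S, ∀ ι : Type v, PreservesColimitsOfShape (Discrete ι) (preadditiveCoyoneda.obj (op E)))
    {K : DerivedCategory A} (hK : CohDer.IsCompactObject K) {a b k : ℤ} (P : CochainComplex A ℤ)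
    (hb : ∀ i : ℤ, i < a ∨ b < i → IsZero (P.X i)) (hlt : ∀ i, i < k → FinSum S (P.X i))
    (hge : ∀ i, k ≤ i → BigSum S (P.X i)) (r : Retract K (Q.obj P)) :
    ∃ P' : CochainComplex A ℤ, (∀ i : ℤ, i < a ∨ b < i → IsZero (P'.X i)) ∧
      (∀ i, i < k + 1 → FinSum S (P'.X i)) ∧ (∀ i, k + 1 ≤ i → BigSum S (P'.X i)) ∧
      Nonempty (Retract K (Q.obj P')) := by
  classical
  obtain ⟨ι, E, hE, ⟨e⟩⟩ := hge k le_rfl
  obtain ⟨n, E', hE', ⟨e'⟩⟩ := hlt (k - 1) (by lia)
  obtain ⟨F₀, hF₀⟩ := exists_kill_biproduct E E' (fun j => h2 _ (hE' j) ι) (e'.inv ≫ P.d (k - 1) k ≫ e.hom)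
  have hd : ∀ {F : Finset ι}, F₀ ⊆ F → ∀ i, (ComplexShape.up ℤ).Rel i k → P.d i k ≫ e.hom ≫ kill E F = 0 := by
    intro F hF i hi
    obtain rfl : i = k - 1 := by simp at hi; lia
    have h := comp_kill_mono E hF _ hF₀
    rw [assoc, assoc] at h
    exact (cancel_epi e'.inv).1 (h.trans comp_zero.symm)
  let π₀ : P ⟶ (HomologicalComplex.single A (ComplexShape.up ℤ) k).obj (∐ E) :=
    HomologicalComplex.mkHomToSingle (e.hom ≫ kill E F₀) (hd (Finset.Subset.refl _))
  obtain ⟨F₁, hF₁⟩ := exists_kill_compact hK E k (r.i ≫ Q.map π₀)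
  let F := F₀ ∪ F₁
  -- the finite part and its complement
  let R := ∐ fun t : {t : ι // t ∉ F} => E t.1
  let q : (∐ E) ⟶ R :=
    Sigma.desc fun t => if h : t ∈ F then 0 else Sigma.ι (fun t : {t : ι // t ∉ F} => E t.1) ⟨t, h⟩
  let s : R ⟶ ∐ E := Sigma.desc fun t => Sigma.ι E t.1
  have hsq : s ≫ q = 𝟙 R := Sigma.hom_ext _ _ fun t => by simp [s, q, t.2]; exact (comp_id _).symm
  have hqs : q ≫ s = kill E F := Sigma.hom_ext _ _ fun t => by
    by_cases h : t ∈ F <;> simp [s, q, kill, h]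
  have hkq : ∀ {G : Finset ι}, G ⊆ F → kill E G ≫ q = q := fun {G} hG => Sigma.hom_ext _ _ fun t => by
    by_cases h : t ∈ G
    · rw [reassoc_of% (ι_kill E h), zero_comp]; simp [q, hG h]
    · simp [kill, h]
  let π : P ⟶ (HomologicalComplex.single A (ComplexShape.up ℤ) k).obj R :=
    π₀ ≫ (HomologicalComplex.single A (ComplexShape.up ℤ) k).map q
  have hπk : π.f k = (e.hom ≫ q) ≫ (HomologicalComplex.singleObjXSelf (ComplexShape.up ℤ) k R).inv := by
    simp [π, π₀, HomologicalComplex.single_map_f_self]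
    rw [reassoc_of% (hkq (G := F₀) Finset.subset_union_left)]
  haveI : IsSplitEpi q := ⟨⟨{ section_ := s, id := hsq }⟩⟩
  haveI : ∀ i, Epi (π.f i) := fun i => by
    by_cases hi : i = k
    · subst hi; rw [hπk]; infer_instance
    · exact ⟨fun _ _ _ => (HomologicalComplex.isZero_single_obj_X (ComplexShape.up ℤ) k _ i hi).eq_of_src _ _⟩
  haveI : Epi π := HomologicalComplex.epi_of_epi_f _ inferInstance
  let T := ShortComplex.mk (kernel.ι π) π (kernel.condition π)
  have hT : T.ShortExact :=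
    { exact := ShortComplex.exact_kernel π, epi_g := ‹Epi π› }
  -- the retraction
  have hzero : r.i ≫ Q.map π = 0 := by
    rw [show π = π₀ ≫ (HomologicalComplex.single A (ComplexShape.up ℤ) k).map q from rfl, Functor.map_comp,
      ← hkq (G := F₁) Finset.subset_union_right, Functor.map_comp, Functor.map_comp, ← assoc, ← assoc]
    exact (congrArg (· ≫ (sgl A k).map q) hF₁).trans zero_comp
  obtain ⟨l, hl⟩ := Triangle.coyoneda_exact₂ _ (DerivedCategory.triangleOfSES_distinguished hT) r.i hzero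
  refine ⟨kernel π, fun i hi => ?_, fun i hi => ?_, fun i hi => ?_,
    ⟨{ i := l, r := Q.map (kernel.ι π) ≫ r.r, retract := ?_ }⟩⟩
  · haveI : Mono ((kernel.ι π).f i) := inferInstance
    exact IsZero.of_mono ((kernel.ι π).f i) (hb i hi)
  · have hTi := hT.map_of_exact (HomologicalComplex.eval A (ComplexShape.up ℤ) i)
    rcases (lt_or_eq_of_le (Int.lt_add_one_iff.1 hi)) with hi' | rfl
    · haveI : IsIso ((kernel.ι π).f i) :=
        hTi.isIso_f_iff.2 (HomologicalComplex.isZero_single_obj_X (ComplexShape.up ℤ) k _ i hi'.ne)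
      obtain ⟨n, E'', hE'', ⟨e''⟩⟩ := hlt i hi'
      exact ⟨n, E'', hE'', ⟨asIso ((kernel.ι π).f i) ≪≫ e''⟩⟩
    · let emb : Fin F.card → ι := fun j => (F.equivFin.symm j).1
      have hemb : ∀ j, emb j ∈ F := fun j => (F.equivFin.symm j).2
      let inc : (⨁ fun j => E (emb j)) ⟶ ∐ E := biproduct.desc fun j => Sigma.ι E (emb j)
      let pr : (∐ E) ⟶ ⨁ fun j => E (emb j) :=
        Sigma.desc fun t => if h : t ∈ F then
          eqToHom (by simp [emb]) ≫ biproduct.ι (fun j => E (emb j)) (F.equivFin ⟨t, h⟩) else 0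
      have hincpr : inc ≫ pr = 𝟙 _ := biproduct.hom_ext' _ _ fun j => by
        simp only [inc, pr, biproduct.ι_desc_assoc, Sigma.ι_desc, comp_id, dif_pos (hemb j)]
        have : F.equivFin ⟨emb j, hemb j⟩ = j := by simp [emb]
        exact biproduct.eqToHom_comp_ι (fun j => E (emb j)) this.symm
      have hincq : inc ≫ q = 0 := biproduct.hom_ext' _ _ fun j => by
        simp [inc, q, hemb j]
      let sc := ShortComplex.mk inc q hincq
      let hsc : sc.Splitting :=
        { r := pr, s := s, f_r := hincpr, s_g := hsq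
          id := Sigma.hom_ext _ _ fun t => by
            show Sigma.ι E t ≫ (pr ≫ inc + q ≫ s) = Sigma.ι E t ≫ 𝟙 _
            rw [Preadditive.comp_add, comp_id]
            by_cases h : t ∈ F
            · simp only [pr, q, Sigma.ι_desc_assoc, dif_pos h, assoc, inc, biproduct.ι_desc, zero_comp,
                add_zero]
              exact ι_eqToHom E (by simp [emb]) _
            · simp [pr, q, s, h] }
      haveI : Mono ((kernel.ι π).f i) := inferInstance
      have hin : (inc ≫ e.inv) ≫ π.f i = 0 := by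
        rw [hπk, assoc, assoc, e.inv_hom_id_assoc, reassoc_of% hincq, zero_comp]
      have hι : (kernel.ι π).f i ≫ e.hom ≫ q = 0 := by
        rw [← cancel_mono (HomologicalComplex.singleObjXSelf (ComplexShape.up ℤ) i R).inv, zero_comp,
          assoc, assoc, ← assoc e.hom, ← hπk, ← HomologicalComplex.comp_f, kernel.condition,
          HomologicalComplex.zero_f]
      let a' := KernelFork.IsLimit.lift' hTi.fIsKernel (inc ≫ e.inv) hin
      have ha' : a'.1 ≫ (kernel.ι π).f i = inc ≫ e.inv := a'.2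
      refine ⟨F.card, fun j => E (emb j), fun j => hE _, ⟨
        { hom := (kernel.ι π).f i ≫ e.hom ≫ pr, inv := a'.1, hom_inv_id := ?_, inv_hom_id := ?_ }⟩⟩
      · rw [← cancel_mono ((kernel.ι π).f i), assoc, assoc, assoc, ha', id_comp]
        have hid : pr ≫ inc + q ≫ s = 𝟙 _ := hsc.id
        rw [← reassoc_of% (eq_sub_of_add_eq hid).symm, Preadditive.sub_comp, Preadditive.comp_sub,
          Preadditive.comp_sub, assoc, id_comp, e.hom_inv_id, comp_id, reassoc_of% hι, zero_comp, sub_zero]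
      · rw [reassoc_of% ha', e.inv_hom_id_assoc, hincpr]
  · haveI : IsIso ((kernel.ι π).f i) := (hT.map_of_exact (HomologicalComplex.eval A (ComplexShape.up ℤ) i)).isIso_f_iff.2
      (HomologicalComplex.isZero_single_obj_X (ComplexShape.up ℤ) k _ i (by lia))
    obtain ⟨ι', E'', hE'', ⟨e''⟩⟩ := hge i (by lia)
    exact ⟨ι', E'', hE'', ⟨asIso ((kernel.ι π).f i) ≪≫ e''⟩⟩
  · exact (assoc _ _ _).symm.trans ((congrArg (· ≫ r.r) hl).symm.trans r.retract)

theorem exists_finite_retract (h1 : ∀ X : A, ∃ (ι : Type v) (E : ι → A) (π : ∐ E ⟶ X), (∀ i, E i ∈ S) ∧ Epi π)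
    (h2 : ∀ E ∈ S, ∀ ι : Type v, PreservesColimitsOfShape (Discrete ι) (preadditiveCoyoneda.obj (op E)))
    (K : DerivedCategory A) (hK : CohDer.IsCompactObject K) :
    ∃ (L : CochainComplex A ℤ) (a b : ℤ), (∀ i : ℤ, i < a ∨ b < i → IsZero (L.X i)) ∧
      (∀ i : ℤ, FinSum S (L.X i)) ∧ Nonempty (Retract K (Q.obj L)) := by
  obtain ⟨Z, hZ⟩ : ∃ Z : A, IsZero Z := ⟨_, (isZero_zero A)⟩
  obtain ⟨L, a, b, hb, hP, ⟨r⟩⟩ := exists_bounded_retract (P := BigSum S) ⟨Z, hZ, bigSum_of_isZero hZ⟩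
    (fun X => by
      obtain ⟨ι, E, π, hE, hπ⟩ := h1 X
      exact ⟨∐ E, π, ⟨ι, E, hE, ⟨Iso.refl _⟩⟩, hπ⟩) K hK
  have hind : ∀ m : ℕ, ∃ P : CochainComplex A ℤ, (∀ i : ℤ, i < a ∨ b < i → IsZero (P.X i)) ∧
      (∀ i, i < a + m → FinSum S (P.X i)) ∧ (∀ i, a + m ≤ i → BigSum S (P.X i)) ∧
      Nonempty (Retract K (Q.obj P)) := fun m => by
    induction m with
    | zero => exact ⟨L, hb, fun i hi => finSum_of_isZero (hb i (Or.inl (by simpa using hi))),
        fun i hi => hP i (by simpa using hi), ⟨r⟩⟩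
    | succ m ih =>
      obtain ⟨P, h₁, h₂, h₃, ⟨r'⟩⟩ := ih
      rw [show a + ((m + 1 : ℕ) : ℤ) = a + m + 1 by push_cast; ring]
      exact step h2 hK P h₁ h₂ h₃ r'
  obtain ⟨P, h₁, h₂, -, h₄⟩ := hind (b + 1 - a).toNat
  refine ⟨P, a, b, h₁, fun i => ?_, h₄⟩
  by_cases hi : b < i
  · exact finSum_of_isZero (h₁ i (Or.inr hi))
  · exact h₂ i (by lia)

end Groth.Agent.CompactRetract
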