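import Groth.Agent.CohDerTri.Envelope
import Groth.Agent.Hocolim.Basic
import Groth.Agent.BrownDerived.Basic
import Groth.Agent.DQCoh.DerCalc
import Groth.Agent.CohDerRoofs.Basic
import Groth.Agent.CohDerRes.Left

/-!
A compact object of a derived category is a retract of a bounded complex with terms in a class
with enough quotients.
-/

set_option autoImplicit false
set_option backward.isDefEq.respectTransparency false
set_option backward.isDefEq.respectTransparency.types false

universe v u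

open CategoryTheory Category Limits Pretriangulated DerivedCategory

namespace Groth.Agent.CompactRetract

variable {A : Type u} [Category.{v} A] [Abelian A]

/-- an eventually constant sequence -/
lemma nonempty_isColimit_of_eventually {F : ℕ ⥤ A} (c : Cocone F) (N : ℕ)
    (h : ∀ n, N ≤ n → IsIso (c.ι.app n)) : Nonempty (IsColimit c) := by
  haveI := h N le_rfl
  refine ⟨{ desc := fun s => inv (c.ι.app N) ≫ s.ι.app N, fac := fun s j => ?_, uniq := fun s m hm => ?_ }⟩
  · obtain ⟨M, hNM, hjM⟩ : ∃ M, N ≤ M ∧ j ≤ M := ⟨max N j, le_max_left _ _, le_max_right _ _⟩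
    haveI := h M hNM
    have e : inv (c.ι.app N) ≫ s.ι.app N = inv (c.ι.app M) ≫ s.ι.app M := by
      rw [IsIso.inv_comp_eq, ← c.w (homOfLE hNM), assoc, IsIso.hom_inv_id_assoc, s.w (homOfLE hNM)]
    rw [e, ← c.w (homOfLE hjM), assoc, IsIso.hom_inv_id_assoc, s.w (homOfLE hjM)]
  · rw [← hm N, IsIso.inv_hom_id_assoc]

variable [IsGrothendieckAbelian.{v} A] [HasDerivedCategory.{v} A] [HasCoproducts.{v} (DerivedCategory A)]

/-- a compact object is a retract of a stage of an exhaustion by subcomplexes which stabilizes in each degree -/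
theorem exists_retract_stage {K : DerivedCategory A} (hK : CohDer.IsCompactObject K)
    (L : CochainComplex A ℤ) (e : Retract K (Q.obj L)) (X : ℕ → CochainComplex A ℤ) (j : ∀ n, X n ⟶ L)
    [∀ n, Mono (j n)] (hnest : ∀ n i, IsZero ((X n).X i) ∨ IsIso ((j (n + 1)).f i))
    (hev : ∀ i, ∃ N, ∀ n, N ≤ n → IsIso ((j n).f i)) :
    ∃ n, Nonempty (Retract K (Q.obj (X n))) := by
  have hcond : ∀ n, j n ≫ cokernel.π (j (n + 1)) = 0 := fun n => by
    ext i
    rcases hnest n i with hz | hi
    · exact hz.eq_of_src _ _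
    · have h := congrArg (fun k => HomologicalComplex.Hom.f k i) (cokernel.condition (j (n + 1)))
      simp only [HomologicalComplex.comp_f, HomologicalComplex.zero_f] at h ⊢
      rw [(cancel_epi ((j (n + 1)).f i)).1 (h.trans comp_zero.symm), comp_zero]
  let g : ∀ n, X n ⟶ X (n + 1) := fun n => Abelian.monoLift (j (n + 1)) (j n) (hcond n)
  have hg : ∀ n, g n ≫ j (n + 1) = j n := fun n => Abelian.monoLift_comp _ _ _
  let F : ℕ ⥤ CochainComplex A ℤ := Functor.ofSequence g
  let c : Cocone F :=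
    { pt := L
      ι := NatTrans.ofSequence (fun n => j n) (fun n => by
        show F.map (homOfLE (Nat.le_succ n)) ≫ j (n + 1) = j n ≫ 𝟙 L
        rw [Functor.ofSequence_map_homOfLE_succ, hg, comp_id]) }
  let hc : IsColimit c := HomologicalComplex.isColimitOfEval _ _ fun i =>
    (nonempty_isColimit_of_eventually _ (hev i).choose fun n hn => (hev i).choose_spec n hn).some
  haveI := BrownDerived.preservesColimitsOfShape_Q (B := A) (ULift.{v} ℕ)
  haveI : PreservesColimitsOfShape (Discrete ℕ) (Q : CochainComplex A ℤ ⥤ DerivedCategory A) :=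
    preservesColimitsOfShape_of_equiv (Discrete.equivalence Equiv.ulift.{v}) _
  haveI : HasColimitsOfShape (Discrete ℕ) (DerivedCategory A) :=
    hasColimitsOfShape_of_equivalence (Discrete.equivalence Equiv.ulift.{v})
  haveI : HasExactColimitsOfShape ℕ A :=
    HasExactColimitsOfShape.of_domain_equivalence A (AsSmall.equiv (C := ℕ)).symm
  obtain ⟨δ, hT⟩ := Hocolim.isHocolim_colimit F
  let φ := (colimit.isColimit F).coconePointUniqueUpToIso hc
  have hφ : ∀ n, colimit.ι F n ≫ φ.hom = j n := fun n =>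
    (colimit.isColimit F).comp_coconePointUniqueUpToIso_hom hc n
  obtain ⟨n, w, hw⟩ := CohDerTri.exists_stage _ _ δ hT hK (e.i ≫ Q.map φ.inv)
  refine ⟨n, ⟨{ i := w, r := Q.map (j n) ≫ e.r, retract := ?_ }⟩⟩
  have hw' : e.i ≫ Q.map φ.inv = w ≫ Q.map (colimit.ι F n) :=
    hw.trans (congrArg (w ≫ ·) (Sigma.ι_desc _ _))
  rw [← hφ n, Functor.map_comp, assoc, ← reassoc_of% hw', ← Functor.map_comp_assoc, Iso.inv_hom_id,
    CategoryTheory.Functor.map_id, id_comp, e.retract]

/-- bounded representative with terms in a class -/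
theorem exists_bounded_retract {P : A → Prop} (hP0 : ∃ Z : A, IsZero Z ∧ P Z)
    (hP : ∀ X : A, ∃ (Y : A) (π : Y ⟶ X), P Y ∧ Epi π)
    (K : DerivedCategory A) (hK : CohDer.IsCompactObject K) :
    ∃ (L : CochainComplex A ℤ) (a b : ℤ), (∀ i : ℤ, i < a ∨ b < i → IsZero (L.X i)) ∧
      (∀ i, a ≤ i → P (L.X i)) ∧ Nonempty (Retract K (Q.obj L)) := by
  obtain ⟨L, ⟨e⟩⟩ : ∃ L, Nonempty (Q.obj L ≅ K) :=
    ⟨_, ⟨(Q : _ ⥤ DerivedCategory A).objObjPreimageIso K⟩⟩
  haveI : ∀ n : ℕ, Mono (L.ιTruncLE (n : ℤ)) := fun n =>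
    inferInstanceAs (Mono (HomologicalComplex.ιTruncLE L (ComplexShape.embeddingUpIntLE (n : ℤ))))
  obtain ⟨n, ⟨r⟩⟩ := exists_retract_stage hK L (Retract.ofIso e.symm) (fun n => L.truncLE n) (fun n => L.ιTruncLE (n : ℤ))
    (fun n i => by
      by_cases hi : (n : ℤ) < i
      · exact Or.inl ((L.truncLE (n : ℤ)).isZero_of_isStrictlyLE n i hi)
      · exact Or.inr (CohDerRoofs.isIso_ιTruncLE_f L _ i (by push_cast; lia)))
    (fun i => ⟨i.toNat + 1, fun n hn => CohDerRoofs.isIso_ιTruncLE_f L _ i (by lia)⟩)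
  obtain ⟨R, α, hR, hRP, -, hα⟩ := CohDerRes.exists_left_resolution hP0 hP (L.truncLE n) n
  let r' : Retract K (Q.obj R) :=
    { i := r.i ≫ inv (Q.map α), r := Q.map α ≫ r.r, retract := by simp }
  -- a compact retract of `R` is a retract of a brutal truncation
  obtain ⟨m, ⟨r''⟩⟩ := exists_retract_stage hK R r' (fun m => DQCoh.σGE R (-(m : ℤ)))
    (fun m => DQCoh.σι R (-(m : ℤ))) (fun m i => by
      by_cases hi : i < -(m : ℤ)
      · exact Or.inl (DQCoh.isZero_σGE_X R _ i hi)
      · exact Or.inr (DQCoh.isIso_σι_f R _ i (by push_cast; lia)))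
    (fun i => ⟨(-i).toNat, fun n hn => DQCoh.isIso_σι_f R _ i (by lia)⟩)
  refine ⟨DQCoh.σGE R (-(m : ℤ)), -(m : ℤ), n, fun i hi => ?_, fun i hi => ?_, ⟨r''⟩⟩
  · rcases hi with hi | hi
    · exact DQCoh.isZero_σGE_X R _ i hi
    · exact IsZero.of_mono ((DQCoh.σι R (-(m : ℤ))).f i) (R.isZero_of_isStrictlyLE n i hi)
  · rw [show (DQCoh.σGE R (-(m : ℤ))).X i = R.X i from if_pos hi]
    exact hRP i

end Groth.Agent.CompactRetract
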